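import Mathlib

/-!
If every element centralises a Sylow `p`-subgroup or a Sylow `q`-subgroup, then one of these
Sylow subgroups has centraliser equal to its normaliser (Itô).
-/

set_option autoImplicit false

open scoped Pointwise

namespace Cfsg.Agent.ClassGraph

variable {G : Type*} [Group G]

/-- An element whose class size is prime to `p` centralises a conjugate of a given Sylow subgroup. -/
theorem exists_conj_mem_centralizer [Finite G] {p : ℕ} [Fact p.Prime] (P : Sylow p G) (x : G)
    (hx : ¬ p ∣ (Subgroup.centralizer ({x} : Set G)).index) :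
    ∃ g : G, g * x * g⁻¹ ∈ Subgroup.centralizer ((P : Subgroup G) : Set G) := by
  classical
  set C := Subgroup.centralizer ({x} : Set G)
  obtain ⟨Q⟩ : Nonempty (Sylow p C) := inferInstance
  have hQ : IsPGroup p ((Q : Subgroup C).map C.subtype) := Q.isPGroup'.map _
  have hidx : ¬ p ∣ ((Q : Subgroup C).map C.subtype).index := by
    rw [Subgroup.index_map_subtype]
    exact Nat.Prime.not_dvd_mul Fact.out Q.not_dvd_index hx
  let R : Sylow p G := hQ.toSylow hidx
  obtain ⟨g, hg⟩ := MulAction.exists_smul_eq G R P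
  refine ⟨g, Subgroup.mem_centralizer_iff.mpr fun y hy => ?_⟩
  rw [← hg] at hy
  change y ∈ MulAut.conj g • ((R : Subgroup G) : Set G) at hy
  obtain ⟨r, hr, rfl⟩ := Set.mem_smul_set.mp hy
  obtain ⟨r', -, rfl⟩ := hr
  have h1 : x * (r' : G) = (r' : G) * x :=
    Subgroup.mem_centralizer_iff.mp r'.2 x (Set.mem_singleton x)
  simp only [MulAut.smul_def, MulAut.conj_apply, Subgroup.subtype_apply]
  calc g * r' * g⁻¹ * (g * x * g⁻¹) = g * ((r' : G) * x) * g⁻¹ := by group
    _ = g * (x * (r' : G)) * g⁻¹ := by rw [h1]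
    _ = g * x * g⁻¹ * (g * r' * g⁻¹) := by group

/-- The non-trivial elements conjugate into the centraliser of `P`. -/
def centConj (P : Subgroup G) : Set G :=
  {x | x ≠ 1 ∧ ∃ g : G, g * x * g⁻¹ ∈ Subgroup.centralizer (P : Set G)}

theorem two_mul_ncard_centConj_le [Finite G] (P : Subgroup G)
    (h : ¬ Subgroup.normalizer (P : Set G) ≤ Subgroup.centralizer (P : Set G)) :
    2 * (centConj P).ncard + 2 * (Subgroup.normalizer (P : Set G)).index ≤ Nat.card G := by
  classical
  set N := Subgroup.normalizer (P : Set G)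
  set C := Subgroup.centralizer (P : Set G)
  have hCN : C ≤ N := Subgroup.centralizer_le_normalizer _
  have hnorm : ∀ n ∈ N, ∀ c ∈ C, n * c * n⁻¹ ∈ C := by
    intro n hn c hc
    rw [Subgroup.mem_centralizer_iff] at hc ⊢
    intro y hy
    have hy' : n⁻¹ * y * n ∈ P := by
      simpa using (Subgroup.mem_normalizer_iff.mp (inv_mem hn) y).mp hy
    have h1 := hc _ hy'
    calc y * (n * c * n⁻¹) = n * (n⁻¹ * y * n * c) * n⁻¹ := by group
      _ = n * (c * (n⁻¹ * y * n)) * n⁻¹ := by rw [h1]
      _ = n * c * n⁻¹ * y := by group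
  have hsub : centConj P ⊆ Set.range fun z : (G ⧸ N) × ↥((C : Set G) \ {1}) =>
      z.1.out * (z.2 : G) * z.1.out⁻¹ := by
    rintro x ⟨hx1, g, hg⟩
    set a : G := (QuotientGroup.mk (s := N) g⁻¹).out with ha
    obtain ⟨n, hn⟩ := QuotientGroup.mk_out_eq_mul N g⁻¹
    have hmem : a⁻¹ * x * a ∈ C := by
      rw [ha, hn]
      have := hnorm _ (inv_mem n.2) _ hg
      simpa [mul_assoc] using this
    refine ⟨(QuotientGroup.mk g⁻¹, ⟨a⁻¹ * x * a, hmem, fun e => hx1 ?_⟩), ?_⟩
    · have e' : a⁻¹ * x * a = 1 := e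
      calc x = a * (a⁻¹ * x * a) * a⁻¹ := by group
        _ = 1 := by rw [e', mul_one, mul_inv_cancel]
    · show a * (a⁻¹ * x * a) * a⁻¹ = x
      group
  have h2 : (centConj P).ncard ≤ N.index * (Nat.card C - 1) := by
    refine (Set.ncard_le_ncard hsub (Set.toFinite _)).trans ?_
    rw [← Nat.card_coe_set_eq]
    refine (Finite.card_range_le _).trans ?_
    rw [Nat.card_prod, Nat.card_coe_set_eq, Subgroup.index_eq_card,
      Set.ncard_sdiff_singleton_of_mem (one_mem C)]
    exact le_of_eq (by rw [← Nat.card_coe_set_eq]; rfl)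
  have h3 : 2 * Nat.card C ≤ Nat.card N := by
    have h4 := Subgroup.card_mul_index (C.subgroupOf N)
    rw [Nat.card_congr (Subgroup.subgroupOfEquivOfLe hCN).toEquiv] at h4
    have h5 : (C.subgroupOf N).index ≠ 1 := fun e => h (Subgroup.relIndex_eq_one.mp e)
    have h6 : (C.subgroupOf N).index ≠ 0 := Subgroup.index_ne_zero_of_finite
    calc 2 * Nat.card C ≤ (C.subgroupOf N).index * Nat.card C := Nat.mul_le_mul_right _ (by omega)
      _ = Nat.card N := by rw [Nat.mul_comm, h4]
  have hC : 1 ≤ Nat.card C := Nat.card_pos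
  calc 2 * (centConj P).ncard + 2 * N.index ≤ 2 * (N.index * (Nat.card C - 1)) + 2 * N.index := by
        omega
    _ = N.index * (2 * (Nat.card C - 1) + 2) := by ring
    _ = N.index * (2 * Nat.card C) := by congr 1; omega
    _ ≤ N.index * Nat.card N := Nat.mul_le_mul_left _ h3
    _ = Nat.card G := by rw [Nat.mul_comm, Subgroup.card_mul_index]

/-- Itô: one of the two Sylow subgroups has centraliser containing its normaliser. -/
theorem ito [Finite G] {p q : ℕ} [Fact p.Prime] [Fact q.Prime]
    (h : ∀ x : G, ¬ p ∣ (Subgroup.centralizer ({x} : Set G)).index ∨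
      ¬ q ∣ (Subgroup.centralizer ({x} : Set G)).index) (P : Sylow p G) (Q : Sylow q G) :
    Subgroup.normalizer ((P : Subgroup G) : Set G) ≤ Subgroup.centralizer ((P : Subgroup G) : Set G) ∨
    Subgroup.normalizer ((Q : Subgroup G) : Set G) ≤ Subgroup.centralizer ((Q : Subgroup G) : Set G) := by
  classical
  by_contra hc
  push Not at hc
  have h1 := two_mul_ncard_centConj_le (P : Subgroup G) hc.1
  have h2 := two_mul_ncard_centConj_le (Q : Subgroup G) hc.2
  have hcov : ({1}ᶜ : Set G) ⊆ centConj (P : Subgroup G) ∪ centConj (Q : Subgroup G) := by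
    intro x hx
    rcases h x with h' | h'
    · exact Or.inl ⟨hx, exists_conj_mem_centralizer P x h'⟩
    · exact Or.inr ⟨hx, exists_conj_mem_centralizer Q x h'⟩
  have h3 := (Set.ncard_le_ncard hcov (Set.toFinite _)).trans (Set.ncard_union_le _ _)
  rw [Set.ncard_compl, Set.ncard_singleton] at h3
  have h4 : (Subgroup.normalizer ((P : Subgroup G) : Set G)).index ≠ 0 := Subgroup.index_ne_zero_of_finite
  have h5 : (Subgroup.normalizer ((Q : Subgroup G) : Set G)).index ≠ 0 := Subgroup.index_ne_zero_of_finite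
  omega

/-- The normal complement given by Burnside. -/
theorem exists_complement [Finite G] {p : ℕ} [Fact p.Prime] (P : Sylow p G)
    (h : Subgroup.normalizer ((P : Subgroup G) : Set G) ≤
      Subgroup.centralizer ((P : Subgroup G) : Set G)) :
    ∃ N : Subgroup G, N.Normal ∧ N.IsComplement' (P : Subgroup G) :=
  ⟨(MonoidHom.transferSylow P h).ker, inferInstance,
    MonoidHom.ker_transferSylow_isComplement' P h⟩

end Cfsg.Agent.ClassGraph
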