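import Cfsg.Prelude.Def_Solvable
import Cfsg.Agent.ClassGraph.Ito

/-!
Groups whose class sizes split into numbers for `σ` and numbers prime to `σ`, when the Sylow
subgroups for the primes of `σ` are self-centralising-normalised: an abelian normal complement,
and `G/Z(G)` a Frobenius group.
-/

set_option autoImplicit false

open scoped Pointwise

namespace Cfsg.Agent.ClassGraph

variable {G : Type*} [Group G]

/-- A proper subgroup has an element outside all its conjugates. -/
theorem exists_forall_conj_notMem [Finite G] (H : Subgroup G) (hH : H ≠ ⊤) :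
    ∃ x : G, ∀ g : G, g * x * g⁻¹ ∉ H := by
  classical
  by_contra hc
  push Not at hc
  have hsub : ({1}ᶜ : Set G) ⊆ Set.range fun z : (G ⧸ H) × ↥((H : Set G) \ {1}) =>
      z.1.out * (z.2 : G) * z.1.out⁻¹ := by
    intro x hx
    obtain ⟨g, hg⟩ := hc x
    set a : G := (QuotientGroup.mk (s := H) g⁻¹).out with ha
    obtain ⟨n, hn⟩ := QuotientGroup.mk_out_eq_mul H g⁻¹
    have hmem : a⁻¹ * x * a ∈ H := by
      rw [ha, hn]
      simpa [mul_assoc] using mul_mem (mul_mem (inv_mem n.2) hg) n.2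
    refine ⟨(QuotientGroup.mk g⁻¹, ⟨a⁻¹ * x * a, hmem, fun e => hx ?_⟩), ?_⟩
    · have e' : a⁻¹ * x * a = 1 := e
      calc x = a * (a⁻¹ * x * a) * a⁻¹ := by group
        _ = 1 := by rw [e', mul_one, mul_inv_cancel]
    · show a * (a⁻¹ * x * a) * a⁻¹ = x
      group
  have h0 := Set.ncard_le_ncard hsub (Set.toFinite _)
  rw [← Nat.card_coe_set_eq (Set.range _)] at h0
  have h1 := h0.trans (Finite.card_range_le _)
  rw [Set.ncard_compl, Set.ncard_singleton, Nat.card_prod, Nat.card_coe_set_eq,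
    Set.ncard_sdiff_singleton_of_mem (one_mem H), ← Nat.card_coe_set_eq] at h1
  have h2 : H.index * Nat.card H = Nat.card G := by
    rw [Nat.mul_comm]; exact Subgroup.card_mul_index H
  have h3 : H.index ≠ 1 := fun e => hH (Subgroup.index_eq_one.mp e)
  have h4 : H.index ≠ 0 := Subgroup.index_ne_zero_of_finite
  have h5 : 1 ≤ Nat.card H := Nat.card_pos
  have h6 : Nat.card G - 1 ≤ H.index * (Nat.card H - 1) := h1
  rw [Nat.mul_sub, mul_one, h2] at h6
  have h7 : H.index ≤ Nat.card G := by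
    calc H.index = H.index * 1 := (mul_one _).symm
      _ ≤ H.index * Nat.card H := Nat.mul_le_mul_left _ h5
      _ = Nat.card G := h2
  omega

/-- An element commuting with two commuting elements of coprime order is determined by their
product. -/
theorem centralizer_mul_le [Finite G] {a b : G} (hab : Commute a b)
    (hcop : (orderOf a).Coprime (orderOf b)) :
    Subgroup.centralizer ({a * b} : Set G) ≤
      Subgroup.centralizer ({a} : Set G) ⊓ Subgroup.centralizer ({b} : Set G) := by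
  intro g hg
  have h : Commute g (a * b) := ((Subgroup.mem_centralizer_singleton_iff).mp hg)
  have ha : Commute g a := by
    have h1 : Commute g (a ^ orderOf b) := by
      have := h.pow_right (orderOf b)
      rwa [hab.mul_pow, pow_orderOf_eq_one, mul_one] at this
    obtain ⟨m, hm⟩ := exists_pow_eq_self_of_coprime hcop.symm
    exact hm ▸ h1.pow_right m
  have hb : Commute g b := by
    have h1 : Commute g (b ^ orderOf a) := by
      have := h.pow_right (orderOf a)
      rwa [hab.mul_pow, pow_orderOf_eq_one, one_mul] at this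
    obtain ⟨m, hm⟩ := exists_pow_eq_self_of_coprime hcop
    exact hm ▸ h1.pow_right m
  exact ⟨Subgroup.mem_centralizer_singleton_iff.mpr ha, Subgroup.mem_centralizer_singleton_iff.mpr hb⟩

/-- The main theorem. -/
theorem split [Finite G] (σ : Set ℕ) (hσp : ∀ p ∈ σ, p.Prime)
    (hvert : ∀ p ∈ σ, ∃ g : G, p ∣ (Subgroup.centralizer ({g} : Set G)).index)
    (hσne : σ.Nonempty)
    (hout : ∃ q, q.Prime ∧ q ∉ σ ∧ ∃ g : G, q ∣ (Subgroup.centralizer ({g} : Set G)).index)
    (hcross : ∀ (g : G) (p q : ℕ), p ∈ σ → q.Prime → q ∉ σ →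
      p ∣ (Subgroup.centralizer ({g} : Set G)).index →
      q ∣ (Subgroup.centralizer ({g} : Set G)).index → False)
    (hNC : ∀ p ∈ σ, ∃ P : Sylow p G, Subgroup.normalizer ((P : Subgroup G) : Set G) ≤
      Subgroup.centralizer ((P : Subgroup G) : Set G)) :
    ∃ H : Subgroup (G ⧸ Subgroup.center G), Cfsg.IsFrobeniusComplement H ∧ IsMulCommutative H ∧
      ∀ x ∈ Cfsg.frobeniusKernel H, ∀ y ∈ Cfsg.frobeniusKernel H, x * y = y * x := by
  classical
  choose! P hP using hNC
  have hN : ∀ p ∈ σ, ∃ N : Subgroup G, N.Normal ∧ N.IsComplement' (P p : Subgroup G) := fun p hp =>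
    haveI := Fact.mk (hσp p hp)
    exists_complement (P p) (hP p hp)
  choose! N hNn hNc using hN
  have hPc : ∀ p ∈ σ, ∀ a ∈ (P p : Subgroup G), ∀ b ∈ (P p : Subgroup G), a * b = b * a :=
    fun p hp a ha b hb => (Subgroup.mem_centralizer_iff.mp (hP p hp (Subgroup.le_normalizer hb)) a ha)
  let K : Subgroup G := ⨅ p : σ, N p
  have hKn : K.Normal := Subgroup.normal_iInf_normal fun p => hNn p p.2
  have hcomm : ∀ a b : G, a * b * a⁻¹ * b⁻¹ ∈ K := by
    intro a b
    refine Subgroup.mem_iInf.mpr fun p => ?_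
    have := hNn p p.2
    obtain ⟨⟨n, x⟩, hnx, -⟩ := (hNc p p.2).existsUnique a
    obtain ⟨⟨m, y⟩, hmy, -⟩ := (hNc p p.2).existsUnique b
    simp only at hnx hmy
    rw [← QuotientGroup.eq_one_iff]
    simp only [QuotientGroup.mk_mul, QuotientGroup.mk_inv]
    have e1 : (QuotientGroup.mk a : G ⧸ N p) = QuotientGroup.mk (x : G) := by
      rw [← hnx, QuotientGroup.mk_mul, (QuotientGroup.eq_one_iff _).mpr n.2, one_mul]
    have e2 : (QuotientGroup.mk b : G ⧸ N p) = QuotientGroup.mk (y : G) := by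
      rw [← hmy, QuotientGroup.mk_mul, (QuotientGroup.eq_one_iff _).mpr m.2, one_mul]
    rw [e1, e2, ← QuotientGroup.mk_mul, hPc p p.2 _ x.2 _ y.2, QuotientGroup.mk_mul]
    group
  have hKσ : ∀ p ∈ σ, ¬ p ∣ Nat.card K := by
    intro p hp hd
    have := Fact.mk (hσp p hp)
    have h1 : Nat.card (N p) = (P p : Subgroup G).index := (hNc p hp).index_eq_card.symm
    exact (P p).not_dvd_index (h1 ▸ hd.trans (Subgroup.card_dvd_of_le (iInf_le _ (⟨p, hp⟩ : σ))))
  have hKindex : ∀ r : ℕ, r.Prime → r ∣ K.index → r ∈ σ := by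
    intro r hr hd
    have := Fact.mk hr
    obtain ⟨z, hz⟩ := exists_prime_orderOf_dvd_card' (G := G ⧸ K) r (by rwa [← Subgroup.index_eq_card])
    obtain ⟨x, rfl⟩ := QuotientGroup.mk_surjective z
    have hxK : x ∉ K := fun h => by
      rw [(QuotientGroup.eq_one_iff x).mpr h, orderOf_one] at hz
      exact hr.ne_one hz.symm
    have hxr : x ^ r ∈ K := by
      rw [← QuotientGroup.eq_one_iff, QuotientGroup.mk_pow, ← hz]
      exact pow_orderOf_eq_one _
    obtain ⟨p, hxp⟩ : ∃ p : σ, x ∉ N p := by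
      simpa [K, Subgroup.mem_iInf] using hxK
    have := hNn p p.2
    have := Fact.mk (hσp p p.2)
    have h1 : (N (p : ℕ)).index = Nat.card (P p : Subgroup G) := (hNc p p.2).symm.index_eq_card
    obtain ⟨n, hn⟩ := IsPGroup.iff_card.mp (P (p : ℕ)).isPGroup'
    have h2 : x ^ (p : ℕ) ^ n ∈ N p := by
      rw [← hn, ← h1]; exact Subgroup.pow_index_mem _ x
    by_contra hne
    have hcop : (r : ℕ).Coprime ((p : ℕ) ^ n) :=
      Nat.Coprime.pow_right n ((Nat.coprime_primes hr (hσp p p.2)).mpr fun e => hne (e ▸ p.2))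
    have h3 : x ^ r ∈ N p := Subgroup.mem_iInf.mp hxr p
    refine hxp ((QuotientGroup.eq_one_iff x).mp (orderOf_eq_one_iff.mp (Nat.eq_one_of_dvd_coprimes hcop
      (orderOf_dvd_of_pow_eq_one ?_) (orderOf_dvd_of_pow_eq_one ?_))))
    · rw [← QuotientGroup.mk_pow, QuotientGroup.eq_one_iff]; exact h3
    · rw [← QuotientGroup.mk_pow, QuotientGroup.eq_one_iff]; exact h2
  have hcopK : (Nat.card K).Coprime K.index := Nat.coprime_of_dvd fun r hr h1 h2 =>
    hKσ r (hKindex r hr h2) h1
  obtain ⟨H, hH⟩ := Subgroup.exists_right_complement'_of_coprime hcopK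
  have hHcard : Nat.card H = K.index := hH.symm.index_eq_card.symm
  have hHc : ∀ a ∈ H, ∀ b ∈ H, a * b = b * a := by
    intro a ha b hb
    have h1 : a * b * a⁻¹ * b⁻¹ ∈ K ⊓ H :=
      Subgroup.mem_inf.mpr ⟨hcomm a b, mul_mem (mul_mem (mul_mem ha hb) (inv_mem ha)) (inv_mem hb)⟩
    rw [hH.disjoint.eq_bot, Subgroup.mem_bot] at h1
    calc a * b = a * b * a⁻¹ * b⁻¹ * (b * a) := by group
      _ = b * a := by rw [h1, one_mul]
  have hdecomp : ∀ g : G, ∃ k ∈ K, ∃ h ∈ H, g = k * h := fun g => by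
    obtain ⟨⟨k, h⟩, hkh, -⟩ := hH.existsUnique g
    exact ⟨k, k.2, h, h.2, hkh.symm⟩
  have hcopel : ∀ a ∈ H, ∀ b ∈ K, (orderOf a).Coprime (orderOf b) := fun a ha b hb =>
    Nat.Coprime.coprime_dvd_left (Subgroup.orderOf_dvd_natCard H ha)
      (Nat.Coprime.coprime_dvd_right (Subgroup.orderOf_dvd_natCard K hb) (hHcard ▸ hcopK.symm))
  -- every element of `G` is central, or centralises `K`, or centralises a conjugate of `H`
  have hle_of_dvd : ∀ (x : G) (p : ℕ), p ∈ σ → p ∣ (Subgroup.centralizer ({x} : Set G)).index →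
      K ≤ Subgroup.centralizer ({x} : Set G) := by
    intro x p hp hd
    by_contra hle
    set C := Subgroup.centralizer ({x} : Set G)
    obtain ⟨r, hr, hrd⟩ := Nat.exists_prime_and_dvd (fun e => hle (Subgroup.relIndex_eq_one.mp e) :
      C.relIndex K ≠ 1)
    have hrσ : r ∉ σ := fun h => hKσ r h (hrd.trans (Subgroup.relIndex_dvd_card C K))
    have e1 : C.relIndex K * K.index = (C ⊓ K).index := by
      rw [← Subgroup.inf_relIndex_right, Subgroup.relIndex_mul_index inf_le_right]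
    have e2 : K.relIndex C * C.index = (C ⊓ K).index := by
      rw [← Subgroup.inf_relIndex_left, Subgroup.relIndex_mul_index inf_le_left]
    have h2 : r ∣ K.relIndex C * C.index := by
      rw [e2, ← e1]; exact dvd_mul_of_dvd_left hrd _
    rcases hr.dvd_mul.mp h2 with h | h
    · exact hrσ (hKindex r hr (h.trans (Subgroup.relIndex_dvd_index_of_normal _ _)))
    · exact hcross x p r hp hr hrσ hd h
  -- `K` is abelian
  have hKab : ∀ a ∈ K, ∀ b ∈ K, a * b = b * a := by
    obtain ⟨p, hp⟩ := hσne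
    have := Fact.mk (hσp p hp)
    obtain ⟨R₀⟩ : Nonempty (Sylow p H) := inferInstance
    have hRidx : ¬ p ∣ ((R₀ : Subgroup H).map H.subtype).index := by
      rw [Subgroup.index_map_subtype]
      exact Nat.Prime.not_dvd_mul Fact.out R₀.not_dvd_index (hH.index_eq_card.symm ▸ hKσ p hp)
    let R : Sylow p G := (R₀.isPGroup'.map H.subtype).toSylow hRidx
    have hRH : ∀ y ∈ (R : Subgroup G), y ∈ H := fun y hy => Subgroup.map_subtype_le _ hy
    let C : Subgroup G := K ⊓ Subgroup.centralizer ((R : Subgroup G) : Set G)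
    let Z : Subgroup G := K ⊓ Subgroup.centralizer (K : Set G)
    have hcov : ∀ x ∈ K, x ∈ Z ∨ ∃ k ∈ K, k * x * k⁻¹ ∈ C := by
      intro x hx
      by_cases hd : p ∣ (Subgroup.centralizer ({x} : Set G)).index
      · exact Or.inl ⟨hx, Subgroup.mem_centralizer_iff.mpr fun y hy =>
          Subgroup.mem_centralizer_singleton_iff.mp (hle_of_dvd x p hp hd hy)⟩
      · right
        obtain ⟨g, hg⟩ := exists_conj_mem_centralizer R x hd
        obtain ⟨k, hk, h, hh, hkh⟩ := hdecomp g⁻¹
        have hg' : g = h⁻¹ * k⁻¹ := by rw [← inv_inv g, hkh, mul_inv_rev]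
        refine ⟨k⁻¹, inv_mem hk, Subgroup.mem_inf.mpr ⟨mul_mem (mul_mem (inv_mem hk) hx) (inv_mem (inv_mem hk)),
          Subgroup.mem_centralizer_iff.mpr fun y hy => ?_⟩⟩
        have h1 := Subgroup.mem_centralizer_iff.mp hg y hy
        rw [hg'] at h1
        have e : h * y = y * h := hHc h hh y (hRH y hy)
        calc y * (k⁻¹ * x * k⁻¹⁻¹)
            = y * h * (h⁻¹ * k⁻¹ * x * (h⁻¹ * k⁻¹)⁻¹) * h⁻¹ := by group
          _ = h * (y * (h⁻¹ * k⁻¹ * x * (h⁻¹ * k⁻¹)⁻¹)) * h⁻¹ := by rw [← e]; group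
          _ = h * (h⁻¹ * k⁻¹ * x * (h⁻¹ * k⁻¹)⁻¹ * y) * h⁻¹ := by rw [h1]
          _ = k⁻¹ * x * k * (h * y) * h⁻¹ := by group
          _ = k⁻¹ * x * k * (y * h) * h⁻¹ := by rw [e]
          _ = k⁻¹ * x * k⁻¹⁻¹ * y := by group
    have hsup : K ≤ Z ⊔ C := by
      by_contra hne
      obtain ⟨x, hx⟩ := exists_forall_conj_notMem ((Z ⊔ C).subgroupOf K) (fun e =>
        hne (Subgroup.subgroupOf_eq_top.mp e))
      rcases hcov x x.2 with h | ⟨k, hk, h⟩
      · exact hx 1 (by simpa [Subgroup.mem_subgroupOf] using (Subgroup.mem_sup_left h : (x : G) ∈ Z ⊔ C))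
      · exact hx ⟨k, hk⟩ (Subgroup.mem_subgroupOf.mpr (Subgroup.mem_sup_right (show k * x * k⁻¹ ∈ C from h)))
    have hCn : ∀ k ∈ K, ∀ c ∈ C, k⁻¹ * c * k ∈ C := by
      have hle : Z ⊔ C ≤ Subgroup.normalizer (C : Set G) := by
        refine sup_le (fun z hz => ?_) Subgroup.le_normalizer
        rw [Subgroup.mem_normalizer_iff]
        intro c
        have hz1 : z ∈ Subgroup.centralizer (K : Set G) := hz.2
        constructor
        · intro hc
          rw [← Subgroup.mem_centralizer_iff.mp hz1 c hc.1, mul_inv_cancel_right]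
          exact hc
        · intro hc
          have h1 := Subgroup.mem_centralizer_iff.mp hz1 _ hc.1
          have h2 : z * c * z⁻¹ = c := by
            calc z * c * z⁻¹ = z⁻¹ * (z * (z * c * z⁻¹)) := by group
              _ = z⁻¹ * (z * c * z⁻¹ * z) := by rw [h1]
              _ = c := by group
          exact h2 ▸ hc
      intro k hk c hc
      simpa using (Subgroup.mem_normalizer_iff.mp (inv_mem (hle (hsup hk))) c).mp hc
    have hun : ∀ x ∈ K, x ∈ Z ∨ x ∈ C := fun x hx => by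
      rcases hcov x hx with h | ⟨k, hk, h⟩
      · exact Or.inl h
      · right
        simpa [mul_assoc] using hCn k hk _ h
    obtain ⟨c, hcK, hcC⟩ : ∃ c ∈ K, c ∉ C := by
      by_contra hcon
      push Not at hcon
      obtain ⟨g, hg⟩ := hvert p hp
      refine R.not_dvd_index (hg.trans (Subgroup.index_dvd_of_le fun y hy => ?_))
      obtain ⟨k, hk, h, hh, hkh⟩ := hdecomp g
      have h1 := Subgroup.mem_centralizer_iff.mp (hcon k hk).2 y hy
      have h2 := hHc h hh y (hRH y hy)
      rw [Subgroup.mem_centralizer_singleton_iff, hkh]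
      calc y * (k * h) = k * (y * h) := by rw [← mul_assoc, h1, mul_assoc]
        _ = k * h * y := by rw [← h2, mul_assoc]
    have hcZ : c ∈ Z := (hun c hcK).resolve_right hcC
    intro a ha b hb
    have haZ : a ∈ Z := by
      rcases hun a ha with h | h
      · exact h
      rcases hun (a * c) (mul_mem ha hcK) with h' | h'
      · simpa using mul_mem h' (inv_mem hcZ)
      · exact absurd (by simpa using mul_mem (inv_mem h) h') hcC
    exact (Subgroup.mem_centralizer_iff.mp haZ.2 b hb).symm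
  -- an element of `H` and one of `K` commute only trivially
  have hkey : ∀ h ∈ H, ∀ k ∈ K, h * k = k * h →
      (∀ h' ∈ H, h' * k = k * h') ∨ (∀ k' ∈ K, h * k' = k' * h) := by
    intro h hh k hk hc
    by_contra hcon
    push Not at hcon
    obtain ⟨⟨h', hh', hne1⟩, k', hk', hne2⟩ := hcon
    have hle := centralizer_mul_le (show Commute h k from hc) (hcopel h hh k hk)
    have hi := Subgroup.index_dvd_of_le hle
    set Ch := Subgroup.centralizer ({h} : Set G)
    set Ck := Subgroup.centralizer ({k} : Set G)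
    have hHCh : H ≤ Ch := fun y hy => Subgroup.mem_centralizer_singleton_iff.mpr (hHc y hy h hh)
    have hKCk : K ≤ Ck := fun y hy => Subgroup.mem_centralizer_singleton_iff.mpr (hKab y hy k hk)
    obtain ⟨p, hp, hpd⟩ := Nat.exists_prime_and_dvd (fun e : Ck.index = 1 => hne1
      (Subgroup.mem_centralizer_singleton_iff.mp (show h' ∈ Ck by
        rw [Subgroup.index_eq_one.mp e]; exact Subgroup.mem_top h')))
    obtain ⟨q, hq, hqd⟩ := Nat.exists_prime_and_dvd (fun e : Ch.index = 1 => hne2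
      (Subgroup.mem_centralizer_singleton_iff.mp (show k' ∈ Ch by
        rw [Subgroup.index_eq_one.mp e]; exact Subgroup.mem_top k')).symm)
    have hpσ : p ∈ σ := hKindex p hp (hpd.trans (Subgroup.index_dvd_of_le hKCk))
    have hqσ : q ∉ σ := fun e => hKσ q e (by
      rw [← hH.index_eq_card]; exact hqd.trans (Subgroup.index_dvd_of_le hHCh))
    exact hcross (h * k) p q hpσ hq hqσ ((hpd.trans (Subgroup.index_dvd_of_le inf_le_right)).trans hi)
      ((hqd.trans (Subgroup.index_dvd_of_le inf_le_left)).trans hi)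
  have htrick : ∀ h ∈ H, ∀ k ∈ K, (∀ h' ∈ H, h' * (k * h * k⁻¹ * h⁻¹) = k * h * k⁻¹ * h⁻¹ * h') →
      h * k = k * h := by
    intro h hh k hk hz
    set z := k * h * k⁻¹ * h⁻¹ with hzdef
    have hzK : z ∈ K := by
      rw [hzdef, show k * h * k⁻¹ * h⁻¹ = k * (h * k⁻¹ * h⁻¹) by group]
      exact mul_mem hk (hKn.conj_mem _ (inv_mem hk) h)
    have h1 : z ^ orderOf h = 1 := by
      have e : k * h * k⁻¹ = z * h := by rw [hzdef]; group
      have := congrArg (· ^ orderOf h) e
      rw [conj_pow, pow_orderOf_eq_one, mul_one, mul_inv_cancel,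
        (show Commute z h from (hz h hh).symm).mul_pow, pow_orderOf_eq_one, mul_one] at this
      exact this.symm
    have h2 : z = 1 := orderOf_eq_one_iff.mp (Nat.eq_one_of_dvd_coprimes (hcopel h hh z hzK)
      (orderOf_dvd_of_pow_eq_one h1) dvd_rfl)
    calc h * k = (k * h * k⁻¹ * h⁻¹)⁻¹ * (k * h) := by group
      _ = k * h := by rw [← hzdef, h2, inv_one, one_mul]
  -- the centre
  have hcenter : ∀ k ∈ K, ∀ h ∈ H, k * h ∈ Subgroup.center G →
      (∀ h' ∈ H, h' * k = k * h') ∧ ∀ k' ∈ K, h * k' = k' * h := by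
    intro k hk h hh hz
    constructor
    · intro h' hh'
      have e := Subgroup.mem_center_iff.mp hz h'
      rw [mul_assoc k h h', hHc h hh h' hh', ← mul_assoc h', ← mul_assoc k] at e
      exact mul_right_cancel e
    · intro k' hk'
      have e := Subgroup.mem_center_iff.mp hz k'
      rw [← mul_assoc, hKab k' hk' k hk, mul_assoc, mul_assoc] at e
      exact (mul_left_cancel e).symm
  have hmemcenter : ∀ k ∈ K, ∀ h ∈ H, (∀ h' ∈ H, h' * k = k * h') →
      (∀ k' ∈ K, h * k' = k' * h) → k * h ∈ Subgroup.center G := by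
    intro k hk h hh h1 h2
    refine Subgroup.mem_center_iff.mpr fun g => ?_
    obtain ⟨a, ha, b, hb, rfl⟩ := hdecomp g
    calc a * b * (k * h) = a * (b * k) * h := by group
      _ = a * k * (b * h) := by rw [h1 b hb]; group
      _ = k * (a * h) * b := by rw [hHc b hb h hh, hKab a ha k hk]; group
      _ = k * h * (a * b) := by rw [← h2 a ha]; group
  set π := QuotientGroup.mk' (Subgroup.center G) with hπ
  have hπmem : ∀ g : G, π g ∈ H.map π → ∃ k ∈ K, ∃ h ∈ H, g = k * h ∧ ∀ h' ∈ H, h' * k = k * h' := by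
    intro g hg
    obtain ⟨h, hh, he⟩ := hg
    have hz : h⁻¹ * g ∈ Subgroup.center G := QuotientGroup.eq.mp he
    obtain ⟨a, ha, b, hb, hab⟩ := hdecomp (h⁻¹ * g)
    have hc1 := (hcenter a ha b hb (hab ▸ hz)).1
    exact ⟨a, ha, h * b, mul_mem hh hb, by
      rw [← mul_assoc, ← hc1 h hh, mul_assoc, ← hab, mul_inv_cancel_left], hc1⟩
  -- a vertex outside `σ` forces `H` to be non-central
  obtain ⟨h₀, hh₀, hh₀n⟩ : ∃ h ∈ H, ¬ ∀ k ∈ K, h * k = k * h := by
    by_contra hcon
    push Not at hcon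
    obtain ⟨q, hq, -, g, hg⟩ := hout
    obtain ⟨k, hk, h, hh, rfl⟩ := hdecomp g
    have hz : k * h ∈ Subgroup.center G :=
      hmemcenter k hk h hh (fun h' hh' => hcon h' hh' k hk) (hcon h hh)
    have h1 : Subgroup.centralizer ({k * h} : Set G) = ⊤ := Subgroup.centralizer_eq_top_iff_subset.mpr
      (Set.singleton_subset_iff.mpr hz)
    rw [h1, Subgroup.index_top] at hg
    exact hq.ne_one (Nat.dvd_one.mp hg)
  obtain ⟨k₀, hk₀, hk₀n⟩ : ∃ k ∈ K, h₀ * k ≠ k * h₀ := by simpa using hh₀n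
  refine ⟨H.map π, ⟨?_, ?_, ?_⟩, ?_, ?_⟩
  · intro e
    have h1 : π h₀ = 1 := (Subgroup.mem_bot).mp (e ▸ Subgroup.mem_map_of_mem π hh₀)
    have h2 : h₀ ∈ Subgroup.center G := (QuotientGroup.eq_one_iff _).mp h1
    exact hk₀n (Subgroup.mem_center_iff.mp h2 k₀).symm
  · intro e
    obtain ⟨k, hk, h, hh, he, hc⟩ := hπmem k₀ (e ▸ Subgroup.mem_top _)
    have h1 : h = 1 := by
      have : h ∈ K ⊓ H := Subgroup.mem_inf.mpr ⟨by
        rw [show h = k⁻¹ * k₀ by rw [he, inv_mul_cancel_left]]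
        exact mul_mem (inv_mem hk) hk₀, hh⟩
      rwa [hH.disjoint.eq_bot, Subgroup.mem_bot] at this
    rw [h1, mul_one] at he
    exact hk₀n (he ▸ hc h₀ hh₀)
  · intro x hx
    obtain ⟨g, rfl⟩ := QuotientGroup.mk_surjective x
    rw [eq_bot_iff]
    rintro y ⟨hy, hy'⟩
    change y ∈ MulAut.conj (π g) • ((H.map π : Subgroup _) : Set _) at hy'
    obtain ⟨_, ⟨h', hh', rfl⟩, e⟩ := Set.mem_smul_set.mp hy'
    obtain ⟨k, hk, h₁, hh₁, rfl⟩ := hdecomp g
    rw [Subgroup.mem_bot]
    have e2 : y = π (k * h' * k⁻¹) := by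
      rw [← e]
      show π (k * h₁) * π h' * (π (k * h₁))⁻¹ = π (k * h' * k⁻¹)
      rw [← map_inv, ← map_mul, ← map_mul]
      congr 1
      calc k * h₁ * h' * (k * h₁)⁻¹ = k * (h₁ * h') * h₁⁻¹ * k⁻¹ := by group
        _ = k * h' * k⁻¹ := by rw [hHc h₁ hh₁ h' hh']; group
    obtain ⟨a, ha, b, hb, hab, hac⟩ := hπmem _ (e2 ▸ hy : π (k * h' * k⁻¹) ∈ H.map π)
    have hK' : k * h' * k⁻¹ * h'⁻¹ ∈ K := by
      rw [show k * h' * k⁻¹ * h'⁻¹ = k * (h' * k⁻¹ * h'⁻¹) by group]
      exact mul_mem hk (hKn.conj_mem _ (inv_mem hk) h')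
    have hb' : b = h' := by
      have : b * h'⁻¹ ∈ K ⊓ H := Subgroup.mem_inf.mpr ⟨by
        rw [show b * h'⁻¹ = a⁻¹ * (k * h' * k⁻¹ * h'⁻¹) by rw [hab]; group]
        exact mul_mem (inv_mem ha) hK', mul_mem hb (inv_mem hh')⟩
      rw [hH.disjoint.eq_bot, Subgroup.mem_bot] at this
      exact mul_inv_eq_one.mp this
    have hz : k * h' * k⁻¹ * h'⁻¹ = a := by rw [hab, hb']; group
    have hcom := htrick h' hh' k hk (hz ▸ hac)
    rcases hkey h' hh' k hk hcom with h1 | h1
    · exfalso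
      refine hx ?_
      refine ⟨h₁, hh₁, ?_⟩
      show π h₁ = π (k * h₁)
      rw [map_mul, (show π k = 1 from (QuotientGroup.eq_one_iff _).mpr (by
        simpa using hmemcenter k hk 1 (one_mem _) h1 (fun k' _ => by simp))), one_mul]
    · rw [e2, ← hcom, mul_inv_cancel_right]
      exact (QuotientGroup.eq_one_iff _).mpr (by
        simpa using hmemcenter 1 (one_mem _) h' hh' (fun _ _ => by simp) h1)
  · exact ⟨⟨fun ⟨x, a, ha, ea⟩ ⟨y, b, hb, eb⟩ => Subtype.ext (by
      show x * y = y * x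
      rw [← ea, ← eb, ← map_mul, ← map_mul, hHc a ha b hb])⟩⟩
  · suffices hker : ∀ x ∈ Cfsg.frobeniusKernel (H.map π), ∃ k ∈ K, π k = x by
      intro x hx y hy
      obtain ⟨a, ha, rfl⟩ := hker x hx
      obtain ⟨b, hb, rfl⟩ := hker y hy
      rw [← map_mul, ← map_mul, hKab a ha b hb]
    intro x hx
    rcases hx with rfl | hx
    · exact ⟨1, one_mem _, map_one _⟩
    obtain ⟨g, rfl⟩ := QuotientGroup.mk_surjective x
    obtain ⟨k, hk, h, hh, rfl⟩ := hdecomp g
    by_cases hc : ∀ k' ∈ K, h * k' = k' * h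
    · refine ⟨k, hk, ?_⟩
      show π k = π (k * h)
      rw [map_mul, (show π h = 1 from (QuotientGroup.eq_one_iff _).mpr (by
        simpa using hmemcenter 1 (one_mem _) h hh (fun _ _ => by simp) hc)), mul_one]
    exfalso
    let CK : Subgroup G := K ⊓ Subgroup.centralizer (H : Set G)
    have hCK : ∀ a, a ∈ CK ↔ a ∈ K ∧ ∀ h' ∈ H, h' * a = a * h' := fun a => by
      simp [CK, Subgroup.mem_centralizer_iff]
    let f : K →* K :=
      { toFun := fun a => ⟨(a : G) * h * (a : G)⁻¹ * h⁻¹, by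
          rw [show (a : G) * h * (a : G)⁻¹ * h⁻¹ = (a : G) * (h * (a : G)⁻¹ * h⁻¹) by group]
          exact mul_mem a.2 (hKn.conj_mem _ (inv_mem a.2) h)⟩
        map_one' := Subtype.ext (by simp)
        map_mul' := fun a b => Subtype.ext (by
          show (a : G) * b * h * ((a : G) * b)⁻¹ * h⁻¹ = (a : G) * h * (a : G)⁻¹ * h⁻¹ * (b * h * (b : G)⁻¹ * h⁻¹)
          have hbK : (b : G) * h * (b : G)⁻¹ * h⁻¹ ∈ K := by
            rw [show (b : G) * h * (b : G)⁻¹ * h⁻¹ = (b : G) * (h * (b : G)⁻¹ * h⁻¹) by group]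
            exact mul_mem b.2 (hKn.conj_mem _ (inv_mem b.2) h)
          have haK : h * (a : G)⁻¹ * h⁻¹ ∈ K := hKn.conj_mem _ (inv_mem a.2) h
          calc (a : G) * b * h * ((a : G) * b)⁻¹ * h⁻¹
              = (a : G) * ((b * h * (b : G)⁻¹ * h⁻¹) * (h * (a : G)⁻¹ * h⁻¹)) := by group
            _ = (a : G) * ((h * (a : G)⁻¹ * h⁻¹) * (b * h * (b : G)⁻¹ * h⁻¹)) := by
              rw [hKab _ hbK _ haK]
            _ = _ := by group) }
    have hker : ∀ a : K, f a = 1 → (a : G) ∈ CK := by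
      intro a ha
      have h1 : (a : G) * h * (a : G)⁻¹ * h⁻¹ = 1 := congrArg Subtype.val ha
      have h2 : h * (a : G) = (a : G) * h := by
        calc h * (a : G) = ((a : G) * h * (a : G)⁻¹ * h⁻¹)⁻¹ * ((a : G) * h) := by group
          _ = (a : G) * h := by rw [h1, inv_one, one_mul]
      exact (hCK _).mpr ⟨a.2, (hkey h hh a a.2 h2).resolve_right hc⟩
    -- the image of `f` and `CK` generate `K`
    let g' : K × CK → K := fun z => ⟨(f z.1 : G) * z.2, mul_mem (f z.1).2 z.2.2.1⟩
    obtain ⟨⟨a, c⟩, hac⟩ : ∃ z, g' z = ⟨k, hk⟩ := by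
      let F : K →* K := f
      have hinf : ∀ a : K, ∀ c : CK, (f a : G) = c → f a = 1 := by
        intro a c e
        have h1 : h * (a : G) = (a : G) * h := htrick h hh a a.2 (fun h' hh' =>
          by rw [show (a : G) * h * (a : G)⁻¹ * h⁻¹ = c from e]; exact ((hCK _).mp c.2).2 h' hh')
        exact Subtype.ext (by show (a : G) * h * (a : G)⁻¹ * h⁻¹ = 1; rw [← h1]; group)
      let m : F.range × CK →* K :=
        { toFun := fun z => ⟨((z.1 : K) : G) * z.2, mul_mem (z.1 : K).2 z.2.2.1⟩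
          map_one' := Subtype.ext (by simp)
          map_mul' := fun z w => Subtype.ext (by
            show ((z.1 : K) : G) * (w.1 : K) * ((z.2 : G) * w.2) = ((z.1 : K) : G) * z.2 * (((w.1 : K) : G) * w.2)
            rw [mul_assoc, ← mul_assoc ((w.1 : K) : G), hKab _ (w.1 : K).2 _ z.2.2.1]
            group) }
      have hminj : Function.Injective m := by
        rw [injective_iff_map_eq_one]
        rintro ⟨⟨_, a, rfl⟩, c⟩ e
        have e' : (F a : G) * (c : G) = 1 := congrArg Subtype.val e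
        have h1 := hinf a c⁻¹ (mul_eq_one_iff_eq_inv.mp e')
        refine Prod.ext (Subtype.ext h1) (Subtype.ext ?_)
        rw [show (F a : G) = 1 from congrArg Subtype.val h1, one_mul] at e'
        exact e'
      have hcard : Nat.card (F.range × CK) = Nat.card K := by
        refine le_antisymm (Nat.card_le_card_of_injective m hminj) ?_
        rw [Nat.card_prod, ← Subgroup.card_mul_index F.ker, Subgroup.index_ker, Nat.mul_comm]
        exact Nat.mul_le_mul_left _ (Nat.card_le_card_of_injective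
          (fun a : F.ker => (⟨((a : K) : G), hker a a.2⟩ : CK)) fun a b e =>
            Subtype.ext (Subtype.ext (congrArg Subtype.val e :)))
      obtain ⟨⟨⟨_, a, rfl⟩, c⟩, hz⟩ := ((Nat.bijective_iff_injective_and_card m).mpr ⟨hminj, hcard⟩).2 ⟨k, hk⟩
      exact ⟨(a, c), hz⟩
    have hac' : (a : G) * h * (a : G)⁻¹ * h⁻¹ * (c : G) = k := congrArg Subtype.val hac
    refine hx (π (a : G)) ?_
    have e : π (k * h) = π (a : G) * π h * (π (a : G))⁻¹ := by
      have hc1 : π (c : G) = 1 := (QuotientGroup.eq_one_iff _).mpr (by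
        simpa using hmemcenter c c.2.1 1 (one_mem _) ((hCK _).mp c.2).2 (fun _ _ => by simp))
      rw [← hac']
      simp only [map_mul, map_inv, hc1, mul_one, inv_mul_cancel_right]
    change π (k * h) ∈ MulAut.conj (π (a : G)) • ((H.map π : Subgroup _) : Set _)
    rw [e]
    exact Set.smul_mem_smul_set (Subgroup.mem_map_of_mem π hh)

end Cfsg.Agent.ClassGraph
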