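import Mathlib

/-!
# A class of size coprime to the largest class size

If the index of `C(x)` is coprime to the largest index `b` of a centraliser, then `x ^ b` is central.
-/

set_option autoImplicit false

open scoped Pointwise

namespace Cfsg.Agent.ClassGraph

variable {G : Type*} [Group G] [Finite G]

/-- The index of the centraliser of an element. -/
noncomputable def idx (g : G) : ℕ := (Subgroup.centralizer ({g} : Set G)).index

/-- Two subgroups of coprime index cover the group. -/
theorem exists_mul_of_coprime {H K : Subgroup G} (h : H.index.Coprime K.index) (g : G) :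
    ∃ u ∈ H, ∃ v ∈ K, g = u * v := by
  have hdvd : K.index ∣ K.relIndex H := by
    refine (h.symm.dvd_of_dvd_mul_right ?_)
    rw [← Subgroup.inf_relIndex_right K H, Subgroup.relIndex_mul_index inf_le_right]
    exact Subgroup.index_dvd_of_le inf_le_left
  have hne : K.relIndex H ≠ 0 := fun e => Subgroup.index_ne_zero_of_finite
    (H := K.subgroupOf H) e
  let f : ↥H ⧸ K.subgroupOf H → G ⧸ K := Quotient.map' (fun u : ↥H => (u : G)) (fun a b hab => by
    rw [QuotientGroup.leftRel_apply] at hab ⊢
    exact hab)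
  have hinj : Function.Injective f := by
    intro a b
    refine Quotient.inductionOn₂' a b fun u v e => Quotient.sound' ?_
    have e' := Quotient.exact' e
    rw [QuotientGroup.leftRel_apply] at e' ⊢
    exact e'
  have hcard : Nat.card (↥H ⧸ K.subgroupOf H) = Nat.card (G ⧸ K) :=
    le_antisymm (Nat.card_le_card_of_injective f hinj)
      (Nat.le_of_dvd (Nat.pos_of_ne_zero hne) hdvd)
  obtain ⟨q, hq⟩ := ((Nat.bijective_iff_injective_and_card f).2 ⟨hinj, hcard⟩).2 (QuotientGroup.mk g)
  induction q using Quotient.inductionOn' with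
  | h u =>
    refine ⟨u, u.2, (u : G)⁻¹ * g, ?_, by group⟩
    exact QuotientGroup.eq.1 hq

theorem card_conjugatesOf (g : G) : (conjugatesOf g).ncard = idx g := by
  have h := MulAction.index_stabilizer (ConjAct G) g
  rw [ConjAct.orbit_eq_carrier_conjClasses, ConjAct.stabilizer_eq_centralizer] at h
  exact h.symm.trans rfl

/-- The main lemma. -/
theorem pow_mem_center (y : G) (hmax : ∀ g : G, idx g ≤ idx y) {x : G} (h : (idx x).Coprime (idx y)) :
    x ^ idx y ∈ Subgroup.center G := by
  classical
  set b := idx y with hb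
  set B := conjugatesOf y with hB
  -- products of the two classes form one class
  have hAB : ∀ g, ∀ w ∈ B, IsConj (x * y) (g * x * g⁻¹ * w) := by
    intro g w hw
    obtain ⟨c, rfl⟩ := isConj_iff.1 hw
    obtain ⟨u, hu, v, hv, e⟩ := exists_mul_of_coprime h (g⁻¹ * c)
    refine isConj_iff.2 ⟨g * u, ?_⟩
    have hu' : u * x = x * u := Subgroup.mem_centralizer_singleton_iff.1 hu
    have hv' : v * y = y * v := Subgroup.mem_centralizer_singleton_iff.1 hv
    have hc : c = g * u * v := by rw [mul_assoc, ← e]; group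
    rw [hc]
    calc g * u * (x * y) * (g * u)⁻¹ = g * (u * x) * y * u⁻¹ * g⁻¹ := by group
      _ = g * (x * u) * y * u⁻¹ * g⁻¹ := by rw [hu']
      _ = g * x * g⁻¹ * (g * u * (y * v) * v⁻¹ * u⁻¹ * g⁻¹) := by group
      _ = g * x * g⁻¹ * (g * u * (v * y) * v⁻¹ * u⁻¹ * g⁻¹) := by rw [hv']
      _ = g * x * g⁻¹ * (g * u * v * y * (g * u * v)⁻¹) := by group
  have heq : ∀ g, (fun w => g * x * g⁻¹ * w) '' B = conjugatesOf (x * y) := fun g => by
    refine Set.eq_of_subset_of_ncard_le ?_ ?_ (Set.toFinite _)
    · rintro _ ⟨w, hw, rfl⟩; exact hAB g w hw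
    · rw [Set.ncard_image_of_injective _ (mul_right_injective _), card_conjugatesOf, card_conjugatesOf]
      exact hmax _
  set K := Subgroup.closure {k : G | ∃ g g' : G, k = (g * x * g⁻¹)⁻¹ * (g' * x * g'⁻¹)} with hK
  have hKB : ∀ k ∈ K, ∀ w ∈ B, k * w ∈ B := by
    intro k hk
    induction hk using Subgroup.closure_induction with
    | mem k hk =>
      obtain ⟨g, g', rfl⟩ := hk
      intro w hw
      obtain ⟨w', hw', e⟩ : g' * x * g'⁻¹ * w ∈ (fun w => g * x * g⁻¹ * w) '' B := by
        rw [heq g, ← heq g']; exact ⟨w, hw, rfl⟩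
      rw [show (g * x * g⁻¹)⁻¹ * (g' * x * g'⁻¹) * w = w' by rw [mul_assoc, ← e]; group]
      exact hw'
    | one => simp
    | mul a c _ _ ha hc => intro w hw; rw [mul_assoc]; exact ha _ (hc w hw)
    | inv a _ ha =>
      intro w hw
      have himg : (fun w => a * w) '' B = B := by
        refine Set.eq_of_subset_of_ncard_le ?_ ?_ (Set.toFinite _)
        · rintro _ ⟨v, hv, rfl⟩; exact ha v hv
        · rw [Set.ncard_image_of_injective _ (mul_right_injective _)]
      obtain ⟨v, hv, e⟩ : w ∈ (fun w => a * w) '' B := himg.symm ▸ hw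
      rw [← e]; simpa using hv
  have hdvd : Nat.card K ∣ b := by
    have hsat : (QuotientGroup.mk (s := K)) ⁻¹' ((QuotientGroup.mk (s := K)) '' {w | w⁻¹ ∈ B}) = {w | w⁻¹ ∈ B} := by
      refine Set.Subset.antisymm ?_ (Set.subset_preimage_image _ _)
      rintro v ⟨w, hw, e⟩
      have := QuotientGroup.eq.1 e
      have h2 := hKB _ (inv_mem this) _ hw
      simpa using h2
    have hc := Nat.card_congr (QuotientGroup.preimageMkEquivSubgroupProdSet K
      ((QuotientGroup.mk (s := K)) '' {w | w⁻¹ ∈ B}))
    rw [hsat, Nat.card_prod, Nat.card_coe_set_eq, show {w | w⁻¹ ∈ B} = (·⁻¹) '' B from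
      Set.ext fun w => ⟨fun hw => ⟨w⁻¹, hw, inv_inv w⟩, fun ⟨v, hv, e⟩ => by rw [← e]; simpa using hv⟩,
      Set.ncard_image_of_injective _ inv_injective, card_conjugatesOf] at hc
    exact ⟨_, hc⟩
  have : K.Normal := ⟨fun k hk c => by
    induction hk using Subgroup.closure_induction with
    | mem k hk =>
      obtain ⟨g, g', rfl⟩ := hk
      exact Subgroup.subset_closure ⟨c * g, c * g', by group⟩
    | one => simp
    | mul a a' _ _ ha ha' =>
      rw [show c * (a * a') * c⁻¹ = (c * a * c⁻¹) * (c * a' * c⁻¹) by group]; exact mul_mem ha ha'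
    | inv a _ ha => rw [show c * a⁻¹ * c⁻¹ = (c * a * c⁻¹)⁻¹ by group]; exact inv_mem ha⟩
  have hKC : K ≤ Subgroup.centralizer ({x} : Set G) := by
    rw [← Subgroup.relIndex_eq_one]
    have h1 : (Subgroup.centralizer ({x} : Set G)).relIndex K ∣ b :=
      (Subgroup.index_dvd_card _).trans hdvd
    have h2 : (Subgroup.centralizer ({x} : Set G)).relIndex K ∣ idx x := by
      set C := Subgroup.centralizer ({x} : Set G)
      have e1 : C.relIndex K * K.index = K.relIndex C * C.index := by
        rw [← Subgroup.inf_relIndex_right C K, Subgroup.relIndex_mul_index inf_le_right,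
          ← Subgroup.inf_relIndex_right K C, Subgroup.relIndex_mul_index inf_le_right, inf_comm]
      have e2 : K.relIndex C * (C ⊔ K).index = K.index := by
        rw [← Subgroup.relIndex_sup_right (H := C) (K := K), Subgroup.relIndex_mul_index le_sup_right]
      refine ⟨(C ⊔ K).index, Nat.eq_of_mul_eq_mul_left
        (Nat.pos_of_ne_zero (show K.relIndex C ≠ 0 from fun e => Subgroup.index_ne_zero_of_finite
          (H := K.subgroupOf C) e)) ?_⟩
      show K.relIndex C * C.index = _
      rw [← e1, ← e2]; ring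
    exact Nat.eq_one_of_dvd_coprimes h h2 h1
  rw [Subgroup.mem_center_iff]
  intro g
  have hk : x⁻¹ * (g * x * g⁻¹) ∈ K := Subgroup.subset_closure ⟨1, g, by group⟩
  set k := x⁻¹ * (g * x * g⁻¹) with hkd
  have hc : Commute x k := (Subgroup.mem_centralizer_singleton_iff.1 (hKC hk)).symm
  have e : g * x ^ b * g⁻¹ = x ^ b := by
    rw [← conj_pow, show g * x * g⁻¹ = x * k by rw [hkd]; group, hc.mul_pow]
    obtain ⟨m, hm⟩ := hdvd
    have : k ^ Nat.card K = 1 := congrArg Subtype.val (pow_card_eq_one' (x := (⟨k, hk⟩ : K)))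
    rw [hm, pow_mul k, this, one_pow, mul_one]
  calc g * x ^ b = g * x ^ b * g⁻¹ * g := by group
    _ = x ^ b * g := by rw [e]

end Cfsg.Agent.ClassGraph
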